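import Groth.Agent.Hensel1.Fibres
import Groth.Agent.Calg4.GeomRegularLocal
import Groth.Agent.Calg4.RegularHom
import Groth.Agent.Calg4.CompletionFlat
import Groth.Agent.Calg1.IndEtaleFibre
import Groth.Agent.PropsBasic.GRingLocal
import Groth.Agent.AdicLinTop.CompletionQuot
import Groth.Agent.S9410
import Groth.Agent.S2038
import Groth.Agent.S2039
import Groth.Agent.S2047
import Groth.Agent.S0543
import Mathlib.RingTheory.Localization.Away.Basic

/-!
G-rings and (strict) henselizations.
-/

set_option autoImplicit false
set_option linter.style.haveILetI false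

universe u

open IsLocalRing TensorProduct

namespace Groth.Calg1.GRingHens

/-- A prime of a finite product of fields is generated by an idempotent. -/
theorem exists_idempotent_of_pi_fields {T : Type u} [CommRing T] {n : ℕ} (K : Fin n → Type u)
    [∀ i, Field (K i)] (e : T ≃+* (Π i, K i)) (P : Ideal T) [P.IsPrime] :
    ∃ ε : T, IsIdempotentElem ε ∧ P = Ideal.span {1 - ε} ∧ P.IsMaximal := by
  classical
  obtain ⟨i, hi⟩ : ∃ i, e.symm (Pi.single i 1) ∉ P := by
    by_contra! h
    refine Ideal.IsPrime.ne_top ‹_› ((Ideal.eq_top_iff_one P).2 ?_)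
    rw [show (1 : T) = ∑ i, e.symm (Pi.single i 1) from e.injective (by
      rw [map_one, map_sum]
      simp only [RingEquiv.apply_symm_apply]
      exact (Finset.univ_sum_single (1 : Π i, K i)).symm)]
    exact Ideal.sum_mem _ fun i _ => h i
  let ε := e.symm (Pi.single i 1)
  have hid : IsIdempotentElem ε := e.injective (by simp [ε, ← Pi.single_mul])
  have hεP : 1 - ε ∈ P := by
    have : ε * (1 - ε) ∈ P := by rw [mul_sub, mul_one, hid.eq, sub_self]; exact zero_mem P
    exact (Ideal.IsPrime.mem_or_mem ‹_› this).resolve_left hi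
  have hmax : (Ideal.span {1 - ε}).IsMaximal := by
    rw [Ideal.isMaximal_iff]
    constructor
    · intro h
      obtain ⟨c, hc⟩ := Ideal.mem_span_singleton'.1 h
      have := congrFun (congrArg e hc) i
      simp [ε] at this
    · intro J x hJ hx hxJ
      have hne : e x i ≠ 0 := fun h0 => hx (Ideal.mem_span_singleton'.2 ⟨x, e.injective (funext fun j => by
        rcases eq_or_ne j i with rfl | hj
        · simp [ε, h0]
        · simp [ε, Pi.single_eq_of_ne hj])⟩)
      rw [show (1 : T) = e.symm (Pi.single i (e x i)⁻¹) * x + (1 - ε) from e.injective (funext fun j => by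
        rcases eq_or_ne j i with rfl | hj
        · simp [ε, inv_mul_cancel₀ hne]
        · simp [ε, Pi.single_eq_of_ne hj])]
      exact J.add_mem (J.mul_mem_left _ hxJ) (hJ (Ideal.subset_span rfl))
  have heq : Ideal.span {1 - ε} = P :=
    hmax.eq_of_le (Ideal.IsPrime.ne_top ‹_›) ((Ideal.span_singleton_le_iff_mem P).2 hεP)
  exact ⟨ε, hid, heq.symm, heq ▸ hmax⟩

set_option maxHeartbeats 1000000 in
/-- Regularity over `R` gives regularity over a (strict) henselization of `R`. -/
theorem isRegularHom_of_hensModel {R S : Type u} [CommRing R] [IsLocalRing R] [IsNoetherianRing R]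
    [CommRing S] [IsLocalRing S] [Algebra R S] [IsLocalHom (algebraMap R S)] (M : Groth.Hensel1.HensModel R S)
    {C : Type u} [CommRing C] [IsNoetherianRing C] [Algebra R C] [Algebra S C] [IsScalarTower R S C]
    [Module.Flat S C] (hRC : CAlg.IsRegularHom R C) : CAlg.IsRegularHom S C := by
  refine ⟨inferInstance, fun q _ => ⟨Groth.Calg1.isNoetherianRing_fiber S C q, ?_⟩⟩
  let p := q.comap (algebraMap R S)
  haveI : q.LiesOver p := ⟨rfl⟩
  letI : Algebra p.ResidueField q.ResidueField :=
    (Ideal.ResidueField.mapₐ p q (Algebra.ofId R S) (q.over_def p)).toRingHom.toAlgebra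
  haveI : IsScalarTower R p.ResidueField q.ResidueField := IsScalarTower.of_algebraMap_eq fun a => by
    rw [RingHom.algebraMap_toAlgebra]
    exact ((Ideal.ResidueField.mapₐ p q (Algebra.ofId R S) (q.over_def p)).commutes a).symm
  obtain ⟨n, K, _, _, hsep, ⟨e⟩⟩ := M.fibre_equiv_pi_separable p
  let T := S ⊗[R] p.ResidueField
  let ψ : T →ₐ[S] q.ResidueField := Algebra.TensorProduct.lift (Algebra.ofId S q.ResidueField)
    (IsScalarTower.toAlgHom R p.ResidueField q.ResidueField) fun _ _ => Commute.all _ _
  letI : Algebra T q.ResidueField := ψ.toRingHom.toAlgebra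
  haveI : IsScalarTower S T q.ResidueField := IsScalarTower.of_algebraMap_eq fun a => (ψ.commutes a).symm
  haveI : (RingHom.ker (algebraMap T q.ResidueField)).IsPrime := RingHom.ker_isPrime _
  obtain ⟨ε, hid, hker, hmax⟩ := exists_idempotent_of_pi_fields K
    ((Algebra.TensorProduct.comm R S p.ResidueField).toRingEquiv.trans e.toRingEquiv)
    (RingHom.ker (algebraMap T q.ResidueField))
  have hsurj : Function.Surjective (algebraMap T q.ResidueField) := by
    let F : Subfield q.ResidueField :=
      { (algebraMap T q.ResidueField).range with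
        inv_mem' := by
          rintro _ ⟨t, rfl⟩
          by_cases h0 : t ∈ RingHom.ker (algebraMap T q.ResidueField)
          · exact ⟨0, by rw [map_zero, (RingHom.mem_ker).1 h0, inv_zero]⟩
          obtain ⟨y, m, hm, hy⟩ := hmax.exists_inv h0
          refine ⟨y, ?_⟩
          have h1 := congrArg (algebraMap T q.ResidueField) hy
          rw [map_add, map_mul, (RingHom.mem_ker).1 hm, add_zero, map_one] at h1
          exact eq_inv_of_mul_eq_one_left h1 }
    intro x
    obtain ⟨b, s, hs, rfl⟩ := IsFractionRing.div_surjective (A := S ⧸ q) x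
    obtain ⟨b, rfl⟩ := Ideal.Quotient.mk_surjective b
    obtain ⟨s, rfl⟩ := Ideal.Quotient.mk_surjective s
    have hmem : ∀ a : S, algebraMap (S ⧸ q) q.ResidueField (Ideal.Quotient.mk q a) ∈ F := fun a =>
      ⟨algebraMap S T a, (IsScalarTower.algebraMap_apply S T q.ResidueField a).symm.trans
        (IsScalarTower.algebraMap_apply S (S ⧸ q) q.ResidueField a)⟩
    exact F.div_mem (hmem b) (hmem s)
  haveI : IsLocalization.Away ε q.ResidueField := IsLocalization.away_of_isIdempotentElem hid hker hsurj
  -- base change to `C`
  let Φ : p.Fiber C →ₐ[p.ResidueField] q.Fiber C := Algebra.TensorProduct.lift (Algebra.ofId _ _)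
    ((Algebra.TensorProduct.includeRight : C →ₐ[S] q.Fiber C).restrictScalars R) fun _ _ => Commute.all _ _
  let G : p.Fiber C ≃+* C ⊗[S] T := (Algebra.TensorProduct.comm R p.ResidueField C).toRingEquiv.trans
    (Algebra.TensorProduct.cancelBaseChange R S S C p.ResidueField).symm.toRingEquiv
  let h : C ⊗[S] T →ₐ[S] C ⊗[S] q.ResidueField := Algebra.TensorProduct.map (AlgHom.id S C) ψ
  have hΦ : ∀ z, Φ z = Algebra.TensorProduct.comm S C q.ResidueField (h (G z)) := by
    intro z
    induction z using TensorProduct.induction_on with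
    | zero => simp only [map_zero]
    | add x y hx hy => simp only [map_add, hx, hy]
    | tmul a c =>
      simp [Φ, G, h, ψ, Algebra.ofId_apply]
      refine congrArg (fun x => x ⊗ₜ[S] c) (Eq.symm ((Algebra.TensorProduct.lift_tmul _ _ _ 1 a).trans ?_))
      rw [map_one, one_mul]
      rfl
  let ε' : p.Fiber C := G.symm ((1 : C) ⊗ₜ[S] ε)
  have hkerh : RingHom.ker h = (RingHom.ker ψ).map (Algebra.TensorProduct.includeRight : T →ₐ[S] C ⊗[S] T) :=
    Algebra.TensorProduct.lTensor_ker _ hsurj
  have hkψ : RingHom.ker ψ = Ideal.span {1 - ε} := hker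
  have hker' : RingHom.ker Φ.toRingHom = Ideal.span {1 - ε'} := by
    ext z
    rw [RingHom.mem_ker, Ideal.mem_span_singleton']
    show Φ z = 0 ↔ _
    rw [hΦ, map_eq_zero_iff _ (Algebra.TensorProduct.comm S C q.ResidueField).injective,
      ← RingHom.mem_ker, hkerh, hkψ, Ideal.map_span, Set.image_singleton, Ideal.mem_span_singleton']
    have hincl : (Algebra.TensorProduct.includeRight : T →ₐ[S] C ⊗[S] T) (1 - ε) = G (1 - ε') := by
      rw [map_sub, map_sub, map_one, map_one, G.apply_symm_apply]
      rfl
    rw [hincl]
    refine ⟨fun ⟨w, hw⟩ => ⟨G.symm w, G.injective ?_⟩, fun ⟨w, hw⟩ => ⟨G w, ?_⟩⟩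
    · rw [map_mul, G.apply_symm_apply, hw]
    · rw [← map_mul, hw]
  have hΦsurj : Function.Surjective Φ := fun z => by
    obtain ⟨w, hw⟩ := TensorProduct.map_surjective (g := LinearMap.id (R := S) (M := C)) (g' := ψ.toLinearMap)
      Function.surjective_id hsurj ((Algebra.TensorProduct.comm S C q.ResidueField).symm z)
    refine ⟨G.symm w, ?_⟩
    rw [hΦ, RingEquiv.apply_symm_apply, show h w = _ from hw, AlgEquiv.apply_symm_apply]
  letI : Algebra (p.Fiber C) (q.Fiber C) := Φ.toRingHom.toAlgebra
  haveI : IsScalarTower p.ResidueField (p.Fiber C) (q.Fiber C) :=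
    IsScalarTower.of_algebraMap_eq fun a => (Φ.commutes a).symm
  haveI : IsLocalization.Away ε' (q.Fiber C) := IsLocalization.away_of_isIdempotentElem
    (IsIdempotentElem.map (by simp [IsIdempotentElem, hid.eq]) G.symm) hker' hΦsurj
  have hD : CAlg.IsGeometricallyRegular p.ResidueField (q.Fiber C) :=
    Groth.Calg4.isGeometricallyRegular_localization (Submonoid.powers ε') (q.Fiber C) (hRC.2 p).2
  haveI : IsNoetherianRing (q.Fiber C) := Groth.Calg1.isNoetherianRing_fiber S C q
  haveI : Algebra.IsSeparable p.ResidueField q.ResidueField := by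
    refine ⟨fun x => ?_⟩
    obtain ⟨t, rfl⟩ := hsurj x
    let e' : T →+* (Π i, K i) := e.toRingHom.comp (Algebra.TensorProduct.comm R S p.ResidueField).toRingHom
    let χ : (p.ResidueField ⊗[R] S) →ₐ[p.ResidueField] q.ResidueField := Algebra.TensorProduct.lift
      (Algebra.ofId _ _) (IsScalarTower.toAlgHom R S q.ResidueField) fun _ _ => Commute.all _ _
    have hχ : ∀ w, algebraMap T q.ResidueField w = χ (Algebra.TensorProduct.comm R S p.ResidueField w) := by
      intro w
      induction w using TensorProduct.induction_on with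
      | zero => simp only [map_zero]
      | add x y hx hy => simp only [map_add, hx, hy]
      | tmul a b =>
        simp [χ, ψ, RingHom.algebraMap_toAlgebra, mul_comm, Algebra.ofId_apply]
        exact Algebra.TensorProduct.lift_tmul _ _ _ a b
    rw [hχ]
    generalize Algebra.TensorProduct.comm R S p.ResidueField t = w
    rw [← e.symm_apply_apply w]
    generalize e w = v
    classical
    rw [← Finset.univ_sum_single v, map_sum, map_sum]
    refine mem_separableClosure_iff.1 ((separableClosure p.ResidueField q.ResidueField).sum_mem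
      fun i _ => mem_separableClosure_iff.2 ?_)
    by_cases h0 : χ (e.symm (Pi.single i 1)) = 0
    · rw [show Pi.single i (v i) = Pi.single i 1 * Pi.single i (v i) by rw [← Pi.single_mul, one_mul],
        map_mul, map_mul, h0, zero_mul]
      exact mem_separableClosure_iff.1 (zero_mem (separableClosure p.ResidueField q.ResidueField))
    have h1 : χ (e.symm (Pi.single i 1)) = 1 := by
      refine (mul_left_eq_self₀.1 ?_).resolve_right h0
      rw [← map_mul, ← map_mul, ← Pi.single_mul, one_mul]
    let g : K i →ₐ[p.ResidueField] q.ResidueField := AlgHom.ofLinearMap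
      ((χ.comp e.symm.toAlgHom).toLinearMap.comp (LinearMap.single p.ResidueField K i)) h1
      fun x y => by
        show χ (e.symm (Pi.single i (x * y))) = χ (e.symm (Pi.single i x)) * χ (e.symm (Pi.single i y))
        rw [← map_mul, ← map_mul, ← Pi.single_mul]
    exact IsSeparable.map g g.toRingHom.injective (x := v i) ((hsep i).isSeparable' (v i))
  exact (Groth.Agent.S9410.result p.ResidueField q.ResidueField (q.Fiber C)).1 hD

/-- The residue field of a (strict) henselization is separable over the residue field of the base. -/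
theorem isSeparable_residueField {R S : Type u} [CommRing R] [IsLocalRing R]
    [CommRing S] [IsLocalRing S] [Algebra R S] [IsLocalHom (algebraMap R S)] (M : Groth.Hensel1.HensModel R S) :
    Algebra.IsSeparable (ResidueField R) (ResidueField S) := by
  let g₀ : S →ₐ[R] M.Ω := Groth.Hensel1.Hens.pt.comp M.equiv.symm.toAlgHom
  have hg : ∀ x ∈ maximalIdeal S, g₀ x = 0 := fun x hx => by
    rw [← M.equiv.apply_symm_apply x] at hx
    refine (Groth.Hensel1.Hens.mem_maximalIdeal_iff).1 ((IsLocalRing.mem_maximalIdeal _).2 fun hu => ?_)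
    exact (IsLocalRing.mem_maximalIdeal _).1 hx (hu.map M.equiv)
  let g : ResidueField S →+* M.Ω := Ideal.Quotient.lift (maximalIdeal S) g₀.toRingHom hg
  let g' : ResidueField S →ₐ[ResidueField R] M.Ω :=
    { g with
      commutes' := fun r => by
        obtain ⟨r, rfl⟩ := residue_surjective r
        show g (algebraMap (ResidueField R) (ResidueField S) (residue R r)) = _
        rw [← IsLocalRing.ResidueField.algebraMap_eq, ← IsScalarTower.algebraMap_apply,
          ← IsScalarTower.algebraMap_apply, IsScalarTower.algebraMap_apply R S (ResidueField S)]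
        exact g₀.commutes r }
  exact Algebra.IsSeparable.of_algHom (ResidueField R) M.Ω g'

set_option maxHeartbeats 1000000 in
/-- The completion map of a (strict) henselization of a ring with regular completion map is regular. -/
theorem isRegularHom_cpl_hensModel {R S : Type u} [CommRing R] [IsLocalRing R] [IsNoetherianRing R]
    [CommRing S] [IsLocalRing S] [Algebra R S] [IsLocalHom (algebraMap R S)] (M : Groth.Hensel1.HensModel R S)
    (hR : CAlg.IsRegularHom R (AdicCompletion (maximalIdeal R) R)) :
    CAlg.IsRegularHom S (AdicCompletion (maximalIdeal S) S) := by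
  haveI := M.flat
  haveI : IsNoetherianRing S := M.isNoetherianRing_iff.mp inferInstance
  let A := AdicCompletion (maximalIdeal R) R
  let B := AdicCompletion (maximalIdeal S) S
  haveI : IsNoetherianRing A := Groth.Agent.S0543.result R (maximalIdeal R)
  haveI : IsNoetherianRing B := Groth.Agent.S0543.result S (maximalIdeal S)
  haveI : IsAdicComplete (maximalIdeal A) A := by
    rw [AdicCompletion.maximalIdeal_eq_map]
    exact AdicCompletion.isAdicComplete_self _ (maximalIdeal R).fg_of_isNoetherianRing
  haveI : IsAdicComplete (maximalIdeal B) B := by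
    rw [AdicCompletion.maximalIdeal_eq_map]
    exact AdicCompletion.isAdicComplete_self _ (maximalIdeal S).fg_of_isNoetherianRing
  let ψ : A →+* B := Groth.PropsBasic.GRingLocal.cplMap (maximalIdeal R) (maximalIdeal S) (algebraMap R S)
    M.map_maximalIdeal.le
  letI : Algebra A B := ψ.toAlgebra
  haveI : IsScalarTower R A B := IsScalarTower.of_algebraMap_eq fun r => by
    show algebraMap R B r = ψ (algebraMap R A r)
    rw [Groth.Calg4.cplMap_algebraMap (maximalIdeal R) _ (algebraMap R S) M.map_maximalIdeal.le r]
    exact IsScalarTower.algebraMap_apply R S B r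
  haveI : Module.Flat S B := AdicCompletion.flat_of_isNoetherian _
  haveI : Module.Flat R B := Module.Flat.trans R S B
  have hAB : (maximalIdeal A).map (algebraMap A B) = maximalIdeal B := by
    rw [AdicCompletion.maximalIdeal_eq_map, AdicCompletion.maximalIdeal_eq_map, Ideal.map_map,
      ← IsScalarTower.algebraMap_eq, IsScalarTower.algebraMap_eq R S B, ← Ideal.map_map]
    exact congrArg (Ideal.map (algebraMap S B)) M.map_maximalIdeal
  haveI : IsLocalHom (algebraMap A B) := ((local_hom_TFAE _).out 0 2).mpr hAB.le
  haveI : Module.Flat A B := by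
    refine Groth.Calg4.flat_of_flat_of_approx (A := R) (AdicCompletion.maximalIdeal_eq_map).symm
      (fun k b => ?_) hAB.le
    obtain ⟨a, ha⟩ := Ideal.Quotient.mk_surjective (AdicCompletion.evalₐ (maximalIdeal R) k b)
    refine ⟨a, ?_⟩
    rw [AdicCompletion.maximalIdeal_eq_map,
      ← Groth.AdicLinTop.CompletionQuot.ker_evalₐ _ (maximalIdeal R).fg_of_isNoetherianRing k]
    show AdicCompletion.evalₐ (maximalIdeal R) k _ = 0
    rw [map_sub, Groth.AdicLinTop.CompletionQuot.evalₐ_algebraMap, ha, sub_self]
  -- the closed fibre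
  let P := maximalIdeal A
  let D := P.Fiber B
  let κ := P.ResidueField
  have hker : maximalIdeal B ≤ RingHom.ker (Algebra.TensorProduct.includeRight : B →ₐ[A] D).toRingHom := by
    rw [← hAB, Ideal.map_le_iff_le_comap]
    intro a ha
    show (Algebra.TensorProduct.includeRight : B →ₐ[A] D) (algebraMap A B a) = 0
    rw [AlgHom.commutes, Algebra.TensorProduct.algebraMap_apply, Ideal.algebraMap_residueField_eq_zero.2 ha,
      TensorProduct.zero_tmul]
  let g : ResidueField B →ₐ[A] D := Ideal.Quotient.liftₐ (maximalIdeal B)
    Algebra.TensorProduct.includeRight fun x hx => hker hx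
  have hg : Function.Surjective g := by
    intro z
    induction z using TensorProduct.induction_on with
    | zero => exact ⟨0, map_zero g⟩
    | add x y hx hy =>
      obtain ⟨x, rfl⟩ := hx
      obtain ⟨y, rfl⟩ := hy
      exact ⟨x + y, map_add g x y⟩
    | tmul k b =>
      obtain ⟨a, rfl⟩ := P.algebraMap_residueField_surjective k
      refine ⟨residue B (algebraMap A B a * b), ?_⟩
      show (1 : κ) ⊗ₜ[A] (algebraMap A B a * b) = algebraMap A κ a ⊗ₜ[A] b
      rw [← Algebra.smul_def, TensorProduct.tmul_smul, TensorProduct.smul_tmul', Algebra.algebraMap_eq_smul_one]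
  haveI : Module.FaithfullyFlat A B := Module.FaithfullyFlat.of_flat_of_isLocalHom
  haveI : Nontrivial D := Module.FaithfullyFlat.rTensor_nontrivial A B κ
  have hgb : Function.Bijective g := ⟨g.toRingHom.injective, hg⟩
  have hDfield : IsField D :=
    MulEquiv.isField (Field.toIsField (ResidueField B)) (RingEquiv.ofBijective g hgb).symm.toMulEquiv
  letI : Field D := hDfield.toField
  haveI : Algebra.IsSeparable κ D := by
    refine ⟨fun z => ?_⟩
    obtain ⟨x, rfl⟩ := hg z
    obtain ⟨b, rfl⟩ := residue_surjective x
    obtain ⟨s, hs⟩ := Ideal.Quotient.mk_surjective (AdicCompletion.evalₐ (maximalIdeal S) 1 b)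
    have hbs : residue B b = residue B (algebraMap S B s) := by
      refine Ideal.Quotient.eq.2 ?_
      rw [AdicCompletion.maximalIdeal_eq_map, ← pow_one (Ideal.map _ _),
        ← Groth.AdicLinTop.CompletionQuot.ker_evalₐ _ (maximalIdeal S).fg_of_isNoetherianRing 1]
      show AdicCompletion.evalₐ (maximalIdeal S) 1 _ = 0
      rw [map_sub, Groth.AdicLinTop.CompletionQuot.evalₐ_algebraMap, hs, sub_self]
    rw [hbs]
    let gS : ResidueField S →+* D := Ideal.Quotient.lift (maximalIdeal S)
      (g.toRingHom.comp ((residue B).comp (algebraMap S B))) fun w hw => by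
        show g (residue B (algebraMap S B w)) = 0
        rw [(residue_eq_zero_iff _).2 (by rw [AdicCompletion.maximalIdeal_eq_map]; exact Ideal.mem_map_of_mem _ hw),
          map_zero]
    let j : ResidueField R →+* κ := Ideal.Quotient.lift (maximalIdeal R)
      ((algebraMap A κ).comp (algebraMap R A)) fun w hw => by
        show algebraMap A κ (algebraMap R A w) = 0
        rw [Ideal.algebraMap_residueField_eq_zero]
        show algebraMap R A w ∈ maximalIdeal A
        rw [AdicCompletion.maximalIdeal_eq_map]
        exact Ideal.mem_map_of_mem _ hw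
    have hj : (algebraMap κ D).comp j = gS.comp (algebraMap (ResidueField R) (ResidueField S)) := by
      refine RingHom.ext fun r => ?_
      obtain ⟨r, rfl⟩ := residue_surjective r
      show algebraMap κ D (algebraMap A κ (algebraMap R A r)) =
        gS (algebraMap (ResidueField R) (ResidueField S) (residue R r))
      rw [← IsLocalRing.ResidueField.algebraMap_eq, ← IsScalarTower.algebraMap_apply A κ D,
        ← IsScalarTower.algebraMap_apply R (ResidueField R) (ResidueField S),
        IsScalarTower.algebraMap_apply R S (ResidueField S), IsLocalRing.ResidueField.algebraMap_eq]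
      show _ = g (residue B (algebraMap S B (algebraMap R S r)))
      rw [← IsScalarTower.algebraMap_apply R S B, IsScalarTower.algebraMap_apply R A B]
      show _ = (Algebra.TensorProduct.includeRight : B →ₐ[A] D) (algebraMap A B (algebraMap R A r))
      rw [AlgHom.commutes]
    have hsep := (isSeparable_residueField M).isSeparable' (residue S s)
    refine Polynomial.Separable.of_dvd (Polynomial.Separable.map (f := j) hsep) (minpoly.dvd κ _ ?_)
    show Polynomial.aeval (gS (residue S s)) ((minpoly (ResidueField R) (residue S s)).map j) = 0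
    rw [Polynomial.aeval_def, Polynomial.eval₂_map, hj, ← Polynomial.hom_eval₂, ← Polynomial.aeval_def,
      minpoly.aeval, map_zero]
  have hfib : CAlg.IsGeometricallyRegular κ D := by
    refine (Groth.Agent.S9410.result κ D D).2 fun L _ _ _ => ?_
    exact IsRegularRing.of_ringEquiv (Algebra.TensorProduct.rid D D L).toRingEquiv.symm
  haveI hreg : CAlg.IsRegularHom A B :=
    (Groth.Agent.S2039.result).2 ((Groth.Agent.S2038.result).1 ⟨inferInstance, hfib⟩)
  have hRB : CAlg.IsRegularHom R B := Groth.Calg4.IsRegularHom.trans hR hreg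
    fun q _ => Groth.Calg1.isNoetherianRing_fiber R B q
  exact isRegularHom_of_hensModel M hRB

/-- A (strict) henselization of a local G-ring is a G-ring. -/
theorem isGRing_hensModel {R S : Type u} [CommRing R] [IsLocalRing R] [IsNoetherianRing R]
    [CommRing S] [IsLocalRing S] [Algebra R S] [IsLocalHom (algebraMap R S)] (M : Groth.Hensel1.HensModel R S)
    (hG : CAlg.IsGRing R) : CAlg.IsGRing S := by
  haveI : IsNoetherianRing S := M.isNoetherianRing_iff.mp inferInstance
  refine Groth.Agent.S2047.result.2 fun m hm => ?_
  obtain rfl := IsLocalRing.eq_maximalIdeal hm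
  have hR : CAlg.IsRegularHom R (AdicCompletion (maximalIdeal R) R) := Groth.PropsBasic.GRingLocal.isRegularHom_completion_of_equiv
    (IsLocalization.atUnits R (maximalIdeal R).primeCompl (S := Localization.AtPrime (maximalIdeal R))
      fun x hx => notMem_maximalIdeal.1 hx).toRingEquiv.symm (hG.2 (maximalIdeal R))
  exact Groth.PropsBasic.GRingLocal.isRegularHom_completion_of_equiv
    (IsLocalization.atUnits S (maximalIdeal S).primeCompl (S := Localization.AtPrime (maximalIdeal S))
      fun x hx => notMem_maximalIdeal.1 hx).toRingEquiv (isRegularHom_cpl_hensModel M hR)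

end Groth.Calg1.GRingHens
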